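import Cfsg.Agent.BS.U34

/-!
# A model of the Sylow 2-subgroup of `U₃(4)` with an automorphism of order 15
-/

set_option autoImplicit false

namespace Cfsg.Agent.LyR

open Cfsg Cfsg.Agent.BS Subgroup Function
open scoped commutatorElement

/-- Bounded universal quantifier. -/
def allN (n : ℕ) (p : ℕ → Bool) : Bool := Nat.rec true (fun i r => p i && r) n

theorem allN_iff {n : ℕ} {p : ℕ → Bool} : allN n p = true ↔ ∀ i < n, p i = true := by
  induction n with
  | zero => simp [allN]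
  | succ n ih =>
    rw [show allN (n + 1) p = (p n && allN n p) from rfl, Bool.and_eq_true, ih]
    exact ⟨fun h i hi => (Nat.lt_succ_iff_lt_or_eq.1 hi).elim (h.2 i) (fun e => e ▸ h.1),
      fun h => ⟨h n n.lt_succ_self, fun i hi => h i (by omega)⟩⟩

/-- Sixteen times the bilinear cocycle. -/
def bt (a b : ℕ) : ℕ :=
  Nat.mul 16 (Nat.mod (Nat.shiftRight 6572386672189381740864248090750204941530202883645749731786398955779924041031939550595641694276721309304890859111282697048506751672417307250951008815153152 (Nat.add (Nat.mul 32 a) (Nat.mul 2 b))) 4)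

/-- Multiplication of codes. -/
def mu (x y : ℕ) : ℕ := Nat.xor (Nat.xor x y) (bt (Nat.mod x 16) (Nat.mod y 16))

theorem mu_chk : allN 64 (fun x => allN 64 fun y => Nat.blt (mu x y) 64 &&
    Nat.beq (Nat.mod (mu x y) 16) (Nat.xor (Nat.mod x 16) (Nat.mod y 16))) = true := by
  decide +kernel

theorem bt_chk : allN 16 (fun a => allN 16 fun b => allN 16 fun c =>
    Nat.beq (bt (Nat.xor a b) c) (Nat.xor (bt a c) (bt b c)) &&
    Nat.beq (bt a (Nat.xor b c)) (Nat.xor (bt a b) (bt a c))) = true := by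
  decide +kernel

theorem mu_lt {x y : ℕ} (hx : x < 64) (hy : y < 64) : mu x y < 64 := by
  have := allN_iff.1 (allN_iff.1 mu_chk x hx) y hy
  rw [Bool.and_eq_true, Nat.blt_eq] at this
  exact this.1

theorem mu_assoc {x y w : ℕ} (hx : x < 64) (hy : y < 64) (hw : w < 64) :
    mu (mu x y) w = mu x (mu y w) := by
  have m : ∀ {x y : ℕ}, x < 64 → y < 64 →
      Nat.mod (mu x y) 16 = Nat.xor (Nat.mod x 16) (Nat.mod y 16) := fun hx hy => by
    have := allN_iff.1 (allN_iff.1 mu_chk _ hx) _ hy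
    rw [Bool.and_eq_true, Nat.beq_eq] at this
    exact this.2
  have l : ∀ x : ℕ, Nat.mod x 16 < 16 := fun x => Nat.mod_lt _ (by decide)
  have := allN_iff.1 (allN_iff.1 (allN_iff.1 bt_chk _ (l x)) _ (l y)) _ (l w)
  rw [Bool.and_eq_true, Nat.beq_eq, Nat.beq_eq] at this
  rw [mu, m hx hy, this.1, mu, mu, m hy hw, this.2, mu]
  generalize bt (Nat.mod x 16) (Nat.mod y 16) = p
  generalize bt (Nat.mod x 16) (Nat.mod w 16) = q
  generalize bt (Nat.mod y 16) (Nat.mod w 16) = r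
  simp only [Nat.xor_eq]
  ac_rfl

/-- The model: `a + 16 c` codes `u₀^a₀ u₁^a₁ u₂^a₂ u₃^a₃ z₀^c₀ z₁^c₁`. -/
@[ext] structure T0 where
  v : ℕ
  lt : v < 64
  deriving DecidableEq

/-- The element with a given code. -/
def T0.of (n : ℕ) : T0 := ⟨n % 64, Nat.mod_lt _ (by decide)⟩

instance T0.instDecForall (p : T0 → Prop) [DecidablePred p] : Decidable (∀ x, p x) :=
  decidable_of_iff (∀ i, ∀ h : i < 64, p ⟨i, h⟩) ⟨fun h x => h x.v x.lt, fun h _ _ => h _⟩

instance T0.instDecExists (p : T0 → Prop) [DecidablePred p] : Decidable (∃ x, p x) :=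
  decidable_of_iff (¬ ∀ x, ¬ p x) (by simp)

instance T0.instMul : Mul T0 := ⟨fun x y => ⟨mu x.v y.v, mu_lt x.lt y.lt⟩⟩
instance T0.instOne : One T0 := ⟨⟨0, by decide⟩⟩
instance T0.instInv : Inv T0 := ⟨fun x => x * (x * x)⟩

instance T0.instGroup : Group T0 :=
  Group.ofLeftAxioms (fun x y w => T0.ext (mu_assoc x.lt y.lt w.lt)) (by decide +kernel)
    (by decide +kernel)

/-- The model as `Fin 64`. -/
def T0.eqv : T0 ≃ Fin 64 := ⟨fun x => ⟨x.v, x.lt⟩, fun i => ⟨i.1, i.2⟩, fun _ => rfl, fun _ => rfl⟩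

instance T0.instFinite : Finite T0 := Finite.of_equiv _ T0.eqv.symm

theorem card_T0 : Nat.card T0 = 64 := by rw [Nat.card_congr T0.eqv]; simp

/-- The automorphism of order 15 on codes. -/
def ka (x : ℕ) : ℕ := Nat.mod (Nat.shiftRight 8618163335628139232512493326250750239867876285037514639337654375287655671378557813920639105681682252247635125092480 (Nat.mul 6 x)) 64

/-- The automorphism of order 15 as a map. -/
def kf (x : T0) : T0 := ⟨ka x.v, Nat.mod_lt _ (by decide)⟩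

theorem kf_mul : ∀ x y : T0, kf (x * y) = kf x * kf y := by decide +kernel

theorem kf_15 : ∀ x : T0, kf^[14] (kf x) = x ∧ kf (kf^[14] x) = x := by decide +kernel

/-- The automorphism of order 15. -/
def κ : MulAut T0 := ⟨⟨kf, kf^[14], fun x => (kf_15 x).1, fun x => (kf_15 x).2⟩, kf_mul⟩

theorem κ_pow (n : ℕ) (x : T0) : (κ ^ n) x = kf^[n] x := by
  induction n generalizing x with
  | zero => rfl
  | succ n ih => rw [pow_succ, MulAut.mul_apply, ih]; rfl

/-- A generator of the model as an operator group. -/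
def u0 : T0 := ⟨1, by decide⟩

/-- The square of the generator. -/
def z0 : T0 := ⟨16, by decide⟩

theorem cent : ∀ w : T0, w * w = 1 → ∀ x, x * w = w * x := by decide +kernel

theorem four : ∀ x : T0, x * x * (x * x) = 1 := by decide +kernel

set_option synthInstance.maxSize 2048 in
theorem third : ∀ a : T0, a * a = 1 → a ≠ 1 → ∀ b : T0, b * b = 1 → b ≠ 1 → b ≠ a →
    ∀ c : T0, c * c = 1 → c ≠ 1 → c ≠ a → c ≠ b → c = a * b := by decide +kernel

theorem invol : ∀ a : T0, a * a = 1 → a ≠ 1 → a = z0 ∨ a = kf z0 ∨ a = kf (kf z0) := by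
  decide +kernel

theorem closure_top : closure {u0, (κ ^ 5) u0, (κ ^ 2) u0, (κ ^ 7) u0} = ⊤ := by
  have h : ∀ t : T0, ∃ i < 4, ∃ j < 4, ∃ k < 2, ∃ l < 2,
      t = u0 ^ i * kf^[5] u0 ^ j * kf^[2] u0 ^ k * kf^[7] u0 ^ l := by decide +kernel
  rw [eq_top_iff]
  intro t _
  obtain ⟨i, -, j, -, k, -, l, -, rfl⟩ := h t
  simp only [κ_pow]
  refine mul_mem (mul_mem (mul_mem ?_ ?_) ?_) ?_ <;> exact pow_mem (subset_closure (by simp)) _

/-- The image in the Frattini quotient. -/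
def cl (x : T0) : ZMod 2 × ZMod 2 × ZMod 2 × ZMod 2 :=
  ((x.v : ZMod 2), ((x.v / 2 : ℕ) : ZMod 2), ((x.v / 4 : ℕ) : ZMod 2), ((x.v / 8 : ℕ) : ZMod 2))

theorem cl_mul : ∀ x y : T0, cl (x * y) = cl x + cl y := by decide +kernel

theorem cl_inv : ∀ x : T0, cl x⁻¹ = cl x := by decide +kernel

theorem cl_eq_zero : ∀ x : T0, cl x = 0 ↔ x * x = 1 := by decide +kernel

theorem sq_eq_of_cl : ∀ x y : T0, cl x = cl y → x * x = y * y := by decide +kernel

theorem cm_eq : ∀ x y : T0, y * x * y⁻¹ * x⁻¹ = x * y * (x * y) * (x * x) * (y * y) := by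
  decide +kernel

theorem vv : ∀ z : T0, z * z = 1 → ∀ y : T0, y * y = 1 → z * y * (z * y) = 1 ∧ y = z * (z * y) ∧
    y * z * (z * y) = 1 ∧ z * y * z * (z * y) = z ∧ z * z * y = z * (z * y) ∧
    y * (z * y) * (z * y) = z * (z * y) ∧ y * (z * y) * y = z * y ∧ z * (z * y) * y = 1 := by
  decide +kernel

theorem two0 : (2 : ZMod 2 × ZMod 2 × ZMod 2 × ZMod 2) = 0 := by decide

theorem u34 {σ : MulAut T0} (F : ∀ t : T0, t * t = 1 → σ (σ t) = t * σ t) {u : T0}
    (h4 : (σ ^ 4) u = u * σ u) :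
    U34 (u * u) (u * u * σ (u * u)) u ((σ ^ 5) u) ((σ ^ 2) u) ((σ ^ 7) u) := by
  have r : ∀ i, (σ ^ (i + 4)) u = (σ ^ i) u * (σ ^ (i + 1)) u := fun i => by
    rw [pow_add, MulAut.mul_apply, h4, map_mul, pow_succ, MulAut.mul_apply]
  have b : ∀ i, cl ((σ ^ (i + 4)) u) = cl ((σ ^ i) u) + cl ((σ ^ (i + 1)) u) := fun i => by
    rw [r, cl_mul]
  set z := u * u with hz
  have zz : z * z = 1 := four u
  have yy : σ z * σ z = 1 := by rw [← map_mul, zz, map_one]
  obtain ⟨v1, v2, v3, v4, v5, v6, v7, v8⟩ := vv z zz _ yy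
  have Z3 : ∀ i, (σ ^ (i + 3)) z = (σ ^ i) z := fun i => by
    rw [pow_add, MulAut.mul_apply]
    congr 1
    rw [pow_succ', pow_two, MulAut.mul_apply, MulAut.mul_apply, F z zz, map_mul, F z zz,
      ← cent z zz (σ z), ← mul_assoc, yy, one_mul]
  have Z2 : (σ ^ 2) z = z * σ z := by rw [pow_two, MulAut.mul_apply, F z zz]
  have sq : ∀ i, (σ ^ i) u * (σ ^ i) u = (σ ^ i) z := fun i => by rw [← map_mul]
  have cm : ∀ i j k, cl ((σ ^ i) u) + cl ((σ ^ j) u) = cl ((σ ^ k) u) →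
      ⁅(σ ^ j) u, (σ ^ i) u⁆ = (σ ^ k) z * (σ ^ i) z * (σ ^ j) z := fun i j k e => by
    rw [commutatorElement_def, cm_eq, sq_eq_of_cl _ ((σ ^ k) u) (by rw [cl_mul, e]), sq, sq, sq]
  have b0 := b 0
  have b1 := b 1
  have b2 := b 2
  have b3 := b 3
  have b4 := b 4
  have b5 := b 5
  have b6 := b 6
  have b7 := b 7
  have b8 := b 8
  have b9 := b 9
  simp only [Nat.reduceAdd] at b0 b1 b2 b3 b4 b5 b6 b7 b8 b9
  have n : ∀ i, (σ ^ i) z = (σ ^ (i % 3)) z := fun i => by
    induction i using Nat.strong_induction_on with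
    | _ i ih =>
      rcases lt_or_ge i 3 with h | h
      · rw [Nat.mod_eq_of_lt h]
      · obtain ⟨j, rfl⟩ := Nat.exists_eq_add_of_le' h
        rw [Z3, ih j (by omega), Nat.add_mod_right]
  refine ⟨zz, v1, cent z zz _, cent z zz _, cent z zz _, cent z zz _, cent z zz _, cent _ v1 _,
    cent _ v1 _, cent _ v1 _, cent _ v1 _, rfl, ?_, ?_, ?_, ?_, ?_, ?_, ?_, ?_, ?_⟩
  · rw [sq, n, Z2]
  · rw [sq, Z2]
  · rw [sq, n]; exact v2
  · have := cm 0 5 10 (by
      simp only [b9, b8, b7, b6, b5, b4, b3, b2, b1, b0]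
      linear_combination ((-1) * cl ((σ ^ 3) u)) * two0)
    rw [n 10, n 5, Z2] at this; exact this.trans v3
  · have := cm 0 2 8 (by
      simp only [b9, b8, b7, b6, b5, b4, b3, b2, b1, b0]
      linear_combination ((-1) * cl ((σ ^ 1) u)) * two0)
    rw [n 8, Z2] at this; exact this.trans v4
  · have := cm 0 7 9 (by
      simp only [b9, b8, b7, b6, b5, b4, b3, b2, b1, b0]
      linear_combination ((1) * cl ((σ ^ 0) u) + (-1) * cl ((σ ^ 2) u)) * two0)
    rw [n 9, n 7] at this; exact this.trans v5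
  · have := cm 5 2 1 (by
      simp only [b9, b8, b7, b6, b5, b4, b3, b2, b1, b0]
      linear_combination ((1) * cl ((σ ^ 2) u)) * two0)
    rw [n 5, Z2] at this; exact this.trans v6
  · have := cm 5 7 13 (by
      simp only [b9, b8, b7, b6, b5, b4, b3, b2, b1, b0]
      linear_combination ((-1) * cl ((σ ^ 2) u) + (-1) * cl ((σ ^ 3) u)) * two0)
    rw [n 13, n 7, n 5, Z2] at this; exact this.trans v7
  · have := cm 2 7 12 (by
      simp only [b9, b8, b7, b6, b5, b4, b3, b2, b1, b0]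
      linear_combination ((-1) * cl ((σ ^ 1) u) + (-1) * cl ((σ ^ 2) u)) * two0)
    rw [n 12, n 7, Z2] at this; exact this.trans v8

theorem κ_F : ∀ t : T0, t * t = 1 → κ (κ t) = t * κ t := by decide +kernel

theorem κ_four : (κ ^ 4) u0 = u0 * κ u0 := by rw [κ_pow]; decide +kernel

theorem equiv_P {F : Type*} [Field F] [Fintype F] (hF : Fintype.card F = 16)
    (P : Sylow 2 (Cfsg.PSU 3 F 4)) : Nonempty (T0 ≃* (P : Subgroup (Cfsg.PSU 3 F 4))) := by
  have : Fact (Nat.Prime 2) := ⟨Nat.prime_two⟩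
  have e1 : (κ ^ 5) ((κ ^ 2) u0) = (κ ^ 7) u0 := by rw [← MulAut.mul_apply, ← pow_add]
  have H : Tri3 (κ ^ 5) z0 := ⟨IsPGroup.of_card (n := 6) card_T0, ⟨1, by
      ext x : 1; rw [← pow_mul, κ_pow]; revert x; decide +kernel⟩, by decide, by decide, cent,
    by rw [κ_pow]; decide +kernel, by simp only [κ_pow]; decide +kernel,
    by simp only [κ_pow]; decide +kernel⟩
  refine H.equiv_sylow (x := u0) (y := (κ ^ 2) u0) card_T0 ?_ (e1 ▸ closure_top) hF P
  have := u34 κ_F κ_four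
  rwa [← e1, show u0 * u0 * κ (u0 * u0) = (κ ^ 5) z0 by rw [κ_pow]; decide +kernel] at this

end Cfsg.Agent.LyR
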